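import Groth.Agent.Lib.LRSClosed.Kernel
import Mathlib.AlgebraicGeometry.GammaSpecAdjunction
import Mathlib.Geometry.RingedSpace.OpenImmersion

/-!
# Closed immersions of locally ringed spaces into affine schemes

Such a `Z → Spec R` is `Spec (R/I) → Spec R`, `I` the kernel on global sections.
-/

universe u

open CategoryTheory AlgebraicGeometry TopologicalSpace Opposite

namespace Groth.Agent.Lib.LRSClosed

set_option linter.style.haveILetI false

variable {X : Scheme.{u}} {Z : LocallyRingedSpace.{u}} {i : Z ⟶ X.toLocallyRingedSpace}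

lemma stalkMap_eq (z : Z) (a : X.presheaf.stalk (i.base z)) :
    i.stalkMap z a = Z.presheaf.stalkPushforward CommRingCat i.base z (stalkC i (i.base z) a) := rfl

lemma stalkMap_surjective (hb : Topology.IsClosedEmbedding i.base)
    (hc : TopCat.Presheaf.IsLocallySurjective i.c) (z : Z) : Function.Surjective (i.stalkMap z) := by
  haveI := TopCat.Presheaf.stalkPushforward.stalkPushforward_iso_of_isInducing (C := CommRingCat.{u})
    hb.isEmbedding.isInducing Z.presheaf z
  have h1 : Function.Surjective (stalkC i (i.base z)) :=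
    (TopCat.Presheaf.locally_surjective_iff_surjective_on_stalks i.c).mp hc (i.base z)
  have h2 := ((ConcreteCategory.isIso_iff_bijective
    (Z.presheaf.stalkPushforward CommRingCat i.base z)).mp inferInstance).2
  intro a
  obtain ⟨b, hb'⟩ := h2 a
  obtain ⟨c, hc'⟩ := h1 b
  exact ⟨c, by rw [stalkMap_eq, hc', hb']⟩

lemma ker_stalkMap (hb : Topology.IsClosedEmbedding i.base) (z : Z) :
    RingHom.ker (i.stalkMap z).hom = RingHom.ker (stalkC i (i.base z)) := by
  haveI := TopCat.Presheaf.stalkPushforward.stalkPushforward_iso_of_isInducing (C := CommRingCat.{u})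
    hb.isEmbedding.isInducing Z.presheaf z
  have h2 := ((ConcreteCategory.isIso_iff_bijective
    (Z.presheaf.stalkPushforward CommRingCat i.base z)).mp inferInstance).1
  ext a
  rw [RingHom.mem_ker, RingHom.mem_ker]
  refine ⟨fun h => h2 ?_, fun h => ?_⟩
  · rw [map_zero]; exact h
  · rw [stalkMap_eq, h, map_zero]

/-- Off the image the kernel is everything. -/
lemma ker_stalkC_eq_top (hb : Topology.IsClosedEmbedding i.base) {x : X} (hx : x ∉ Set.range i.base) :
    RingHom.ker (stalkC i x) = ⊤ := by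
  let W : X.Opens := ⟨(Set.range i.base)ᶜ, hb.isClosed_range.isOpen_compl⟩
  have hW : (Opens.map i.base).obj W = ⊥ := Opens.ext (Set.eq_empty_iff_forall_notMem.mpr
    fun z hz => hz ⟨z, rfl⟩)
  have hsub : Subsingleton ((i.base _* Z.presheaf).obj (op W)) :=
    CommRingCat.subsingleton_of_isTerminal (Z.sheaf.isTerminalOfEqEmpty hW)
  refine (Ideal.eq_top_iff_one _).mpr ?_
  rw [← map_one (X.presheaf.germ W x hx).hom]
  exact germ_mem_ker i hx (hsub.elim _ _)

theorem mem_range_iff (hi : LRSImm.IsClosedImmersion i) {U : X.Opens} (hU : IsAffineOpen U) {x : X}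
    (hx : x ∈ U) : x ∈ Set.range i.base ↔ killed i U ≤ (hU.primeIdealOf ⟨x, hx⟩).asIdeal := by
  letI := TopCat.Presheaf.algebra_section_stalk X.presheaf (⟨x, hx⟩ : U)
  haveI := hU.isLocalization_stalk ⟨x, hx⟩
  have hcrit : killed i U ≤ (hU.primeIdealOf ⟨x, hx⟩).asIdeal ↔ RingHom.ker (stalkC i x) ≠ ⊤ := by
    rw [ker_stalkC_eq i hi.2.2 hU hx]
    constructor
    · intro h htop
      have := (IsLocalization.map_algebraMap_ne_top_iff_disjoint
        (hU.primeIdealOf ⟨x, hx⟩).asIdeal.primeCompl (X.presheaf.stalk x) (killed i U)).mpr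
        (Set.disjoint_left.mpr fun a ha ha' => ha (h ha'))
      exact this htop
    · intro h a ha
      by_contra hc
      exact Set.disjoint_left.mp ((IsLocalization.map_algebraMap_ne_top_iff_disjoint
        (hU.primeIdealOf ⟨x, hx⟩).asIdeal.primeCompl (X.presheaf.stalk x) (killed i U)).mp h) hc ha
  rw [hcrit]
  refine ⟨?_, fun h => by_contra fun hx' => h (ker_stalkC_eq_top hi.1 hx')⟩
  rintro ⟨z, rfl⟩ htop
  rw [← ker_stalkMap hi.1 z, Ideal.eq_top_iff_one, RingHom.mem_ker, map_one] at htop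
  exact one_ne_zero htop

/-- A closed immersion of locally ringed spaces into `Spec R` is `Spec (R/I)`. -/
theorem exists_iso_spec (R : Type u) [CommRing R] {Z : LocallyRingedSpace.{u}}
    (i : Z ⟶ (Spec (CommRingCat.of R)).toLocallyRingedSpace) (hi : LRSImm.IsClosedImmersion i)
    (I : Ideal R)
    (hI : I = RingHom.ker ((Scheme.ΓSpecIso (CommRingCat.of R)).inv ≫ i.c.app (op ⊤)).hom) :
    ∃ e : Z ≅ (Spec (CommRingCat.of (R ⧸ I))).toLocallyRingedSpace,
      e.hom ≫ (Spec.map (CommRingCat.ofHom (Ideal.Quotient.mk I))).toLRSHom = i := by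
  let φ : CommRingCat.of R ⟶ LocallyRingedSpace.Γ.obj (op Z) :=
    (Scheme.ΓSpecIso (CommRingCat.of R)).inv ≫ i.c.app (op ⊤)
  let mk : CommRingCat.of R ⟶ CommRingCat.of (R ⧸ I) := CommRingCat.ofHom (Ideal.Quotient.mk I)
  let ψ : CommRingCat.of (R ⧸ I) ⟶ LocallyRingedSpace.Γ.obj (op Z) :=
    CommRingCat.ofHom (Ideal.Quotient.lift I φ.hom fun r hr => by rw [hI] at hr; exact hr)
  have hψ : mk ≫ ψ = φ := CommRingCat.hom_ext (RingHom.ext fun r => rfl)
  let adj := ΓSpec.locallyRingedSpaceAdjunction.{u}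
  let e : Z ⟶ (Spec (CommRingCat.of (R ⧸ I))).toLocallyRingedSpace :=
    adj.homEquiv Z (op (CommRingCat.of (R ⧸ I))) ψ.op
  let j := (Spec.map mk).toLRSHom
  have hej : e ≫ j = i := by
    have h1 : e ≫ Spec.toLocallyRingedSpace.map mk.op = adj.homEquiv Z (op (CommRingCat.of R)) (ψ.op ≫ mk.op) :=
      (adj.homEquiv_naturality_right ψ.op mk.op).symm
    refine (h1.trans ?_)
    rw [← op_comp, hψ]
    refine ((adj.homEquiv Z _).apply_eq_iff_eq_symm_apply).mpr ?_
    rw [Adjunction.homEquiv_counit]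
    rfl
  haveI hjc : IsClosedImmersion (Spec.map mk) := IsClosedImmersion.spec_of_surjective _ Ideal.Quotient.mk_surjective
  have hj : Topology.IsClosedEmbedding j.base := (Spec.map mk).isClosedEmbedding
  have hbase : ∀ z, j.base (e.base z) = i.base z := fun z => by rw [← hej]; rfl
  have hU : IsAffineOpen (⊤ : (Spec (CommRingCat.of R)).Opens) := isAffineOpen_top _
  have hpi : ∀ x : Spec (CommRingCat.of R), ∀ s : Γ(Spec (CommRingCat.of R), ⊤),
      (s ∈ (hU.primeIdealOf ⟨x, trivial⟩).asIdeal ↔ x ∉ (Spec (CommRingCat.of R)).basicOpen s) := by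
    intro x s
    have e2 : hU.fromSpec (hU.primeIdealOf ⟨x, trivial⟩) = x := hU.fromSpec_primeIdealOf ⟨x, trivial⟩
    conv_rhs => rw [← e2]
    show _ ↔ hU.primeIdealOf ⟨x, trivial⟩ ∉ hU.fromSpec ⁻¹ᵁ (Spec (CommRingCat.of R)).basicOpen s
    rw [hU.fromSpec_preimage_basicOpen]
    exact (not_iff_not.mpr (PrimeSpectrum.mem_basicOpen _ _)).trans not_not |>.symm
  have hrange : Set.range j.base ⊆ Set.range i.base := by
    rintro _ ⟨q, rfl⟩
    refine (mem_range_iff hi hU (x := j.base q) trivial).mpr fun s hs => (hpi _ _).mpr ?_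
    obtain ⟨r, rfl⟩ : ∃ r, (Scheme.ΓSpecIso (CommRingCat.of R)).inv r = s :=
      ⟨(Scheme.ΓSpecIso (CommRingCat.of R)).hom s, Iso.hom_inv_id_apply (C := CommRingCat) _ _⟩
    have hr : r ∈ I := by rw [hI]; exact hs
    rw [basicOpen_eq_of_affine r]
    intro hmem
    have : (mk r) ∉ (q : PrimeSpectrum (R ⧸ I)).asIdeal := (PrimeSpectrum.mem_basicOpen _ _).mp hmem
    exact this (by
      show Ideal.Quotient.mk I r ∈ _
      rw [Ideal.Quotient.eq_zero_iff_mem.mpr hr]
      exact Submodule.zero_mem _)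
  have heq : ⇑i.base = ⇑j.base ∘ ⇑e.base := funext fun z => (hbase z).symm
  have hee : Topology.IsEmbedding e.base :=
    Topology.IsEmbedding.of_comp (by fun_prop) hj.continuous (heq ▸ hi.1.isEmbedding)
  have hsurj : Function.Surjective e.base := fun q => by
    obtain ⟨z, hz⟩ := hrange ⟨q, rfl⟩
    exact ⟨z, hj.injective ((hbase z).trans hz)⟩
  haveI : ∀ z, IsIso (e.stalkMap z) := fun z => by
    have hi' : LRSImm.IsClosedImmersion (e ≫ j) := hej.symm ▸ hi
    have hI' : I = RingHom.ker ((Scheme.ΓSpecIso (CommRingCat.of R)).inv ≫ (e ≫ j).c.app (op ⊤)).hom :=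
      hej.symm ▸ hI
    have hs : Function.Surjective ((e ≫ j).stalkMap z) := stalkMap_surjective hi'.1 hi'.2.1 z
    have hjs : Function.Surjective (j.stalkMap (e.base z)) :=
      SurjectiveOnStalks.stalkMap_surjective (f := Spec.map mk) (e.base z)
    have hcomp : ∀ a, (e ≫ j).stalkMap z a = e.stalkMap z (j.stalkMap (e.base z) a) := fun a => by
      rw [LocallyRingedSpace.stalkMap_comp]; rfl
    refine (ConcreteCategory.isIso_iff_bijective _).mpr ⟨?_, fun a => ?_⟩
    · rw [injective_iff_map_eq_zero]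
      intro a ha
      obtain ⟨b, rfl⟩ := hjs a
      let b' : (Spec (CommRingCat.of R)).presheaf.stalk ((e ≫ j).base z) := b
      have hb : b' ∈ RingHom.ker ((e ≫ j).stalkMap z).hom := (hcomp b).trans ha
      rw [ker_stalkMap hi'.1, ker_stalkC_eq _ hi'.2.2 hU (x := (e ≫ j).base z) trivial] at hb
      refine (Ideal.map_le_iff_le_comap (K := RingHom.ker (j.stalkMap (e.base z)).hom)).mpr ?_ hb
      intro s hs
      obtain ⟨r, rfl⟩ : ∃ r, (Scheme.ΓSpecIso (CommRingCat.of R)).inv r = s :=
        ⟨(Scheme.ΓSpecIso (CommRingCat.of R)).hom s, Iso.hom_inv_id_apply (C := CommRingCat) _ _⟩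
      have hr : r ∈ I := by rw [hI']; exact hs
      rw [Ideal.mem_comap, RingHom.mem_ker]
      refine (LocallyRingedSpace.stalkMap_germ_apply j ⊤ (e.base z) trivial _).trans ?_
      have hnat := congrArg (fun f => f r) (Scheme.ΓSpecIso_inv_naturality mk)
      simp only [ConcreteCategory.comp_apply] at hnat
      refine Eq.trans (congrArg _ hnat.symm) ?_
      have h0 : mk r = 0 := Ideal.Quotient.eq_zero_iff_mem.mpr hr
      exact (congrArg _ ((congrArg _ h0).trans (map_zero _))).trans (map_zero _)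
    · obtain ⟨b, hb⟩ := hs a
      exact ⟨j.stalkMap (e.base z) b, (hcomp b).symm.trans hb⟩
  haveI : LocallyRingedSpace.IsOpenImmersion e :=
    LocallyRingedSpace.IsOpenImmersion.of_stalk_iso e
      ⟨hee, by rw [hsurj.range_eq]; exact isOpen_univ⟩
  haveI : Epi e.base := (TopCat.epi_iff_surjective _).mpr hsurj
  haveI : IsIso e := LocallyRingedSpace.IsOpenImmersion.to_iso e
  exact ⟨asIso e, hej⟩

end Groth.Agent.Lib.LRSClosed
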