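import Groth.Prelude.Def_W4stkremschemesLRS
import Mathlib.AlgebraicGeometry.AffineScheme
import Mathlib.AlgebraicGeometry.Morphisms.ClosedImmersion
import Mathlib.RingTheory.Localization.Ideal
import Mathlib.Topology.Sheaves.Forget

/-!
# The kernel of a closed immersion of locally ringed spaces into a scheme

If the kernel of `O_X → i_* O_Z` is locally generated by sections, then over an affine open `U` its
stalks are generated by the sections over `U` killed in `Γ(i⁻¹U, O_Z)`.
-/

universe u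

open CategoryTheory AlgebraicGeometry TopologicalSpace Opposite

namespace Groth.Agent.Lib.LRSClosed

set_option linter.style.haveILetI false

variable {X : Scheme.{u}} {Z : LocallyRingedSpace.{u}} (i : Z ⟶ X.toLocallyRingedSpace)

/-- `O_X → i_* O_Z` on stalks. -/
noncomputable def stalkC (x : X) : X.presheaf.stalk x →+* (i.base _* Z.presheaf).stalk x :=
  ((TopCat.Presheaf.stalkFunctor CommRingCat.{u} x).map i.c).hom

/-- The sections over `U` killed in `i_* O_Z`. -/
noncomputable def killed (U : X.Opens) : Ideal Γ(X, U) := RingHom.ker (i.c.app (op U)).hom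

lemma stalkC_germ {U : X.Opens} {x : X} (hx : x ∈ U) (s : Γ(X, U)) :
    stalkC i x (X.presheaf.germ U x hx s) =
      (i.base _* Z.presheaf).germ U x hx (i.c.app (op U) s) :=
  TopCat.Presheaf.stalkFunctor_map_germ_apply U x hx i.c s

lemma mem_killed_res {U W : X.Opens} (h : W ≤ U) {s : Γ(X, U)} (hs : s ∈ killed i U) :
    X.presheaf.map (homOfLE h).op s ∈ killed i W := by
  have hs' : i.c.app (op U) s = 0 := hs
  show i.c.app (op W) (X.presheaf.map (homOfLE h).op s) = 0
  have := congrArg (fun φ => φ s) (i.c.naturality (homOfLE h).op)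
  simp only [ConcreteCategory.comp_apply] at this
  exact this.trans (by rw [hs', map_zero])

lemma germ_mem_ker {U : X.Opens} {x : X} (hx : x ∈ U) {s : Γ(X, U)} (hs : s ∈ killed i U) :
    X.presheaf.germ U x hx s ∈ RingHom.ker (stalkC i x) := by
  rw [RingHom.mem_ker, stalkC_germ, show i.c.app (op U) s = 0 from hs, map_zero]

lemma exists_killed_of_germ_mem_ker {U : X.Opens} {x : X} (hx : x ∈ U) {s : Γ(X, U)}
    (hs : X.presheaf.germ U x hx s ∈ RingHom.ker (stalkC i x)) :
    ∃ (W : X.Opens) (h : W ≤ U), x ∈ W ∧ X.presheaf.map (homOfLE h).op s ∈ killed i W := by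
  rw [RingHom.mem_ker, stalkC_germ, ← map_zero ((i.base _* Z.presheaf).germ U x hx).hom] at hs
  obtain ⟨W, hxW, iU, iV, e⟩ := TopCat.Presheaf.germ_eq _ x hx hx _ _ hs
  refine ⟨W, iU.le, hxW, ?_⟩
  show i.c.app (op W) (X.presheaf.map (homOfLE iU.le).op s) = 0
  have := congrArg (fun φ => φ s) (i.c.naturality iU.op)
  simp only [ConcreteCategory.comp_apply] at this
  refine this.trans (e.trans ?_)
  exact map_zero _

lemma eq_zero_of_locally {U : X.Opens} (t : (i.base _* Z.presheaf).obj (op U))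
    (h : ∀ x ∈ U, ∃ (W : X.Opens) (hW : W ≤ U), x ∈ W ∧
      (i.base _* Z.presheaf).map (homOfLE hW).op t = 0) : t = 0 := by
  choose W hW hxW h0 using h
  let F : TopCat.Sheaf CommRingCat.{u} X.toTopCat := (TopCat.Sheaf.pushforward _ i.base).obj Z.sheaf
  refine F.eq_of_locally_eq' (fun x : U => W x.1 x.2) U (fun x => homOfLE (hW x.1 x.2))
    (fun x hx => Opens.mem_iSup.mpr ⟨⟨x, hx⟩, hxW x hx⟩) t 0 fun x => ?_
  exact (h0 x.1 x.2).trans (map_zero _).symm

/-- In affine coordinates: a generated stalk kernel forces a generated-ideal membership. -/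
lemma exists_pow_mul_mem {U : X.Opens} (hU : IsAffineOpen U) {g a : Γ(X, U)} {J : Ideal Γ(X, U)}
    (h : ∀ (x : X) (hx : x ∈ U), x ∈ X.basicOpen g →
      X.presheaf.germ U x hx a ∈ J.map (X.presheaf.germ U x hx).hom) :
    ∃ M : ℕ, g ^ M * a ∈ J := by
  let T : Ideal Γ(X, U) := Submodule.comap (LinearMap.mulRight Γ(X, U) a) J
  suffices hg : g ∈ T.radical by
    obtain ⟨M, hM⟩ := hg
    exact ⟨M, hM⟩
  rw [Ideal.radical_eq_sInf, Ideal.mem_sInf]
  rintro P ⟨hTP, hP⟩
  by_contra hgP
  let p : PrimeSpectrum Γ(X, U) := ⟨P, hP⟩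
  have hxU : hU.fromSpec p ∈ U := hU.opensRange_fromSpec.le ⟨p, rfl⟩
  have hp : hU.primeIdealOf ⟨_, hxU⟩ = p :=
    hU.fromSpec.isOpenEmbedding.injective (hU.fromSpec_primeIdealOf ⟨_, hxU⟩)
  have hxg : hU.fromSpec p ∈ X.basicOpen g := by
    have : p ∈ hU.fromSpec ⁻¹ᵁ X.basicOpen g := by
      rw [hU.fromSpec_preimage_basicOpen]
      exact (PrimeSpectrum.mem_basicOpen _ _).mpr hgP
    exact this
  have h1 := h _ hxU hxg
  letI := TopCat.Presheaf.algebra_section_stalk X.presheaf (⟨_, hxU⟩ : U)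
  haveI := hU.isLocalization_stalk ⟨_, hxU⟩
  obtain ⟨⟨⟨j, hj⟩, ⟨c, hc⟩⟩, he⟩ := (IsLocalization.mem_map_algebraMap_iff
    (hU.primeIdealOf ⟨_, hxU⟩).asIdeal.primeCompl (X.presheaf.stalk (hU.fromSpec p))).mp h1
  replace he : algebraMap Γ(X, U) (X.presheaf.stalk (hU.fromSpec p)) (a * c) =
      algebraMap Γ(X, U) (X.presheaf.stalk (hU.fromSpec p)) j := (map_mul _ _ _).trans he
  obtain ⟨⟨d, hd⟩, he'⟩ := (IsLocalization.eq_iff_exists
    (hU.primeIdealOf ⟨_, hxU⟩).asIdeal.primeCompl (X.presheaf.stalk (hU.fromSpec p))).mp he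
  have hdc : d * c ∈ T := by
    show d * c * a ∈ J
    rw [mul_assoc, mul_comm c a]
    rw [he']
    exact J.mul_mem_left _ hj
  have : d * c ∈ P := hTP hdc
  rw [hp] at hc hd
  exact (hP.mem_or_mem this).elim hd hc

/-- Generators of the kernel on a small basic open of an affine open, with denominators cleared. -/
lemma exists_gens (hi : LRSImm.KerLocallyGenerated i) {U : X.Opens} (hU : IsAffineOpen U)
    {x : X} (hx : x ∈ U) :
    ∃ (h : Γ(X, U)) (S : Set Γ(X, U)), x ∈ X.basicOpen h ∧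
      (∀ a ∈ S, X.presheaf.map (homOfLE (X.basicOpen_le h)).op a ∈ killed i (X.basicOpen h)) ∧
      ∀ (y : X) (hy : y ∈ U), y ∈ X.basicOpen h →
        RingHom.ker (stalkC i y) = (Ideal.span S).map (X.presheaf.germ U y hy).hom := by
  obtain ⟨W, hxW, κ, s, hs0, hs⟩ := hi x
  obtain ⟨h, hhW, hxh⟩ := hU.exists_basicOpen_le (⟨x, hxW⟩ : (W : X.Opens)) hx
  letI : Algebra Γ(X, U) Γ(X, X.basicOpen h) := (X.presheaf.map (homOfLE (X.basicOpen_le h)).op).hom.toAlgebra
  haveI := hU.isLocalization_basicOpen h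
  let t : κ → Γ(X, X.basicOpen h) := fun j => X.presheaf.map (homOfLE hhW).op (s j)
  choose n a ha using fun j => IsLocalization.Away.surj h (t j)
  have hu : IsUnit (algebraMap Γ(X, U) Γ(X, X.basicOpen h) h) := IsLocalization.Away.algebraMap_isUnit h
  refine ⟨h, Set.range a, hxh, ?_, fun y hy hyh => ?_⟩
  · rintro _ ⟨j, rfl⟩
    show algebraMap Γ(X, U) Γ(X, X.basicOpen h) (a j) ∈ _
    rw [← ha j]
    exact Ideal.mul_mem_right _ _ (mem_killed_res i hhW (hs0 j))
  · refine (hs y (hhW hyh)).symm.trans ?_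
    rw [Ideal.map_span, ← Set.range_comp]
    have key : ∀ j, (X.presheaf.germ U y hy).hom (a j) =
        X.presheaf.germ W y (hhW hyh) (s j) *
          (X.presheaf.germ (X.basicOpen h) y hyh) (algebraMap Γ(X, U) _ h ^ n j) := fun j => by
      rw [← TopCat.Presheaf.germ_res_apply X.presheaf (homOfLE (X.basicOpen_le h)) y hyh (a j),
        ← TopCat.Presheaf.germ_res_apply X.presheaf (homOfLE hhW) y hyh (s j), ← map_mul]
      exact congrArg _ (ha j).symm
    refine le_antisymm (Ideal.span_le.mpr ?_) (Ideal.span_le.mpr ?_)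
    · rintro _ ⟨j, rfl⟩
      obtain ⟨w, hw⟩ := ((hu.pow (n j)).map (X.presheaf.germ (X.basicOpen h) y hyh).hom)
      have : (X.presheaf.germ W y (hhW hyh)) (s j) = (X.presheaf.germ U y hy).hom (a j) * ↑w⁻¹ := by
        rw [key]
        refine Eq.trans (mul_one _).symm (Eq.trans ?_ (mul_assoc _ _ _).symm)
        exact congrArg _ (by rw [← hw]; exact w.mul_inv.symm)
      refine (congrArg (· ∈ Ideal.span _) this).mpr ?_
      exact Ideal.mul_mem_right _ _ (Ideal.subset_span ⟨j, rfl⟩)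
    · rintro _ ⟨j, rfl⟩
      show (X.presheaf.germ U y hy).hom (a j) ∈ Ideal.span _
      rw [key]
      exact Ideal.mul_mem_right _ _ (Ideal.subset_span ⟨j, rfl⟩)

/-- A section killed on a basic open of an affine open is killed after multiplying by a power. -/
lemma exists_pow_mul_killed (hi : LRSImm.KerLocallyGenerated i) {U : X.Opens} (hU : IsAffineOpen U)
    {g a : Γ(X, U)}
    (ha : X.presheaf.map (homOfLE (X.basicOpen_le g)).op a ∈ killed i (X.basicOpen g)) :
    ∃ N : ℕ, g ^ N * a ∈ killed i U := by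
  choose h S hxh hS hker using fun x : U => exists_gens i hi hU x.2
  have hM : ∀ x : U, ∃ M : ℕ, (g * h x) ^ M * a ∈ Ideal.span (S x) := fun x => by
    refine exists_pow_mul_mem hU fun y hy hyg => ?_
    rw [X.basicOpen_mul] at hyg
    rw [← hker x y hy hyg.2, ← TopCat.Presheaf.germ_res_apply X.presheaf (homOfLE (X.basicOpen_le g)) y hyg.1 a]
    exact germ_mem_ker i hyg.1 ha
  choose M hM using hM
  obtain ⟨F, hF⟩ := hU.isCompact.elim_finite_subcover (fun x : U => (X.basicOpen (h x) : Set X))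
    (fun x => (X.basicOpen (h x)).2) fun y hy => Set.mem_iUnion.mpr ⟨⟨y, hy⟩, hxh ⟨y, hy⟩⟩
  refine ⟨F.sup M, eq_zero_of_locally i _ fun y hy => ?_⟩
  obtain ⟨x, hxF, hyx⟩ := Set.mem_iUnion₂.mp (hF hy)
  refine ⟨X.basicOpen (h x), X.basicOpen_le _, hyx, ?_⟩
  let r := (X.presheaf.map (homOfLE (X.basicOpen_le (h x))).op).hom
  have h1 : r ((g * h x) ^ M x * a) ∈ killed i (X.basicOpen (h x)) := by
    suffices hle : (Ideal.span (S x)).map r ≤ killed i (X.basicOpen (h x)) from
      hle (Ideal.mem_map_of_mem r (hM x))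
    rw [Ideal.map_span, Ideal.span_le]
    rintro _ ⟨b, hb, rfl⟩
    exact hS x b hb
  have hu : IsUnit (r (h x)) := by
    letI : Algebra Γ(X, U) Γ(X, X.basicOpen (h x)) := r.toAlgebra
    haveI := hU.isLocalization_basicOpen (h x)
    exact IsLocalization.Away.algebraMap_isUnit (h x)
  have h2 : r (g ^ M x * a) ∈ killed i (X.basicOpen (h x)) := by
    rw [mul_pow, mul_right_comm, map_mul, map_pow r (h x)] at h1
    exact (Ideal.mul_unit_mem_iff_mem _ (hu.pow _)).mp h1
  have h3 : r (g ^ F.sup M * a) ∈ killed i (X.basicOpen (h x)) := by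
    rw [← Nat.sub_add_cancel (Finset.le_sup (f := M) hxF), pow_add, mul_assoc, map_mul]
    exact Ideal.mul_mem_left _ _ h2
  have := congrArg (fun φ => φ (g ^ F.sup M * a)) (i.c.naturality (homOfLE (X.basicOpen_le (h x))).op)
  simp only [ConcreteCategory.comp_apply] at this
  exact this.symm.trans h3

/-- Over an affine open the stalks of the kernel are generated by the killed sections. -/
theorem ker_stalkC_eq (hi : LRSImm.KerLocallyGenerated i) {U : X.Opens} (hU : IsAffineOpen U)
    {x : X} (hx : x ∈ U) :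
    RingHom.ker (stalkC i x) = (killed i U).map (X.presheaf.germ U x hx).hom := by
  refine le_antisymm ?_ (Ideal.map_le_iff_le_comap.mpr fun s hs => germ_mem_ker i hx hs)
  obtain ⟨h, S, hxh, hS, hker⟩ := exists_gens i hi hU hx
  rw [hker x hx hxh, Ideal.map_span, Ideal.span_le]
  rintro _ ⟨a, ha, rfl⟩
  obtain ⟨N, hN⟩ := exists_pow_mul_killed i hi hU (hS a ha)
  have hu : IsUnit ((X.presheaf.germ U x hx).hom (h ^ N)) := by
    rw [map_pow]
    exact ((X.mem_basicOpen h x hx).mp hxh).pow N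
  have := Ideal.mem_map_of_mem (X.presheaf.germ U x hx).hom hN
  rw [map_mul] at this
  exact (Ideal.unit_mul_mem_iff_mem _ hu).mp this

end Groth.Agent.Lib.LRSClosed
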