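import Groth.Agent.Lib.LRSClosed.Affine
import Mathlib.AlgebraicGeometry.Morphisms.QuasiCompact

/-!
# Closed immersions of locally ringed spaces into schemes

* `isClosedImmersion_of_scheme`: for a morphism of schemes the kernel is automatically locally
  generated;
* `isClosedImmersion_lift`: the notion restricts to affine opens;
* `exists_scheme`: the source is a scheme.
-/

universe u

open CategoryTheory AlgebraicGeometry TopologicalSpace Opposite

namespace Groth.Agent.Lib.LRSClosed

set_option linter.style.haveILetI false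

/-- A morphism of schemes that is a closed embedding and surjective on sheaves is a closed immersion
of locally ringed spaces. -/
theorem isClosedImmersion_of_scheme {X Y : Scheme.{u}} (f : X ⟶ Y) (h1 : Topology.IsClosedEmbedding f)
    (h2 : TopCat.Presheaf.IsLocallySurjective f.c) : LRSImm.IsClosedImmersion f.toLRSHom := by
  haveI hci : IsClosedImmersion f :=
    { isClosedEmbedding := h1
      stalkMap_surjective := fun x => stalkMap_surjective (i := f.toLRSHom) h1 h2 x }
  refine ⟨h1, h2, fun x => ?_⟩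
  obtain ⟨U, hU, hx, -⟩ := exists_isAffineOpen_mem_and_subset (X := Y) (x := x) (U := ⊤) trivial
  refine ⟨U, hx, killed f.toLRSHom U, Subtype.val, fun s => s.2, fun y hy => ?_⟩
  refine le_antisymm (Ideal.span_le.mpr ?_) ?_
  · rintro _ ⟨s, rfl⟩
    exact germ_mem_ker f.toLRSHom hy s.2
  intro t ht
  letI := TopCat.Presheaf.algebra_section_stalk Y.presheaf (⟨y, hy⟩ : U)
  haveI := hU.isLocalization_stalk ⟨y, hy⟩
  obtain ⟨⟨a, c, hc⟩, hac⟩ := IsLocalization.surj (hU.primeIdealOf ⟨y, hy⟩).asIdeal.primeCompl t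
  have hu := IsLocalization.map_units (M := (hU.primeIdealOf ⟨y, hy⟩).asIdeal.primeCompl)
    (Y.presheaf.stalk y) ⟨c, hc⟩
  replace hac : t * algebraMap Γ(Y, U) (Y.presheaf.stalk y) c = Y.presheaf.germ U y hy a := hac
  have ha : Y.presheaf.germ U y hy a ∈ RingHom.ker (stalkC f.toLRSHom y) :=
    hac ▸ Ideal.mul_mem_right _ _ ht
  obtain ⟨W, hWU, hyW, hW⟩ := exists_killed_of_germ_mem_ker f.toLRSHom hy ha
  obtain ⟨g, hgW, hyg⟩ := hU.exists_basicOpen_le (⟨y, hyW⟩ : (W : Y.Opens)) hy
  have hg : Y.presheaf.map (homOfLE (Y.basicOpen_le g)).op a ∈ killed f.toLRSHom (Y.basicOpen g) := by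
    have := mem_killed_res f.toLRSHom hgW hW
    rwa [← ConcreteCategory.comp_apply, ← Functor.map_comp] at this
  have h0 : (f.app U a) |_ (X.basicOpen (f.app U g)) = 0 := by
    have h1 := congrArg (fun φ => φ a) (f.naturality (homOfLE (Y.basicOpen_le g)).op)
    simp only [ConcreteCategory.comp_apply] at h1
    have h2 : f.app (Y.basicOpen g) (Y.presheaf.map (homOfLE (Y.basicOpen_le g)).op a) = 0 := hg
    rw [h2] at h1
    have h3 := congrArg (fun z => X.presheaf.map
      (homOfLE (f.preimage_basicOpen g).ge).op z) h1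
    rw [map_zero] at h3
    simp only [← ConcreteCategory.comp_apply, Category.assoc, ← Functor.map_comp] at h3
    exact h3.symm
  obtain ⟨n, hn⟩ := exists_pow_mul_eq_zero_of_res_basicOpen_eq_zero_of_isCompact X
    (hU.preimage f).isCompact (f.app U a) (f.app U g) h0
  have hk : g ^ n * a ∈ killed f.toLRSHom U := by
    show f.app U (g ^ n * a) = 0
    rw [map_mul, map_pow, hn]
  have hgu : IsUnit ((Y.presheaf.germ U y hy).hom (g ^ n)) := by
    rw [map_pow]; exact ((Y.mem_basicOpen g y hy).mp hyg).pow n
  have hga : (Y.presheaf.germ U y hy).hom (g ^ n * a) ∈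
      Ideal.span (Set.range fun s : killed f.toLRSHom U => Y.presheaf.germ U y hy s.1) :=
    Ideal.subset_span ⟨⟨_, hk⟩, rfl⟩
  rw [map_mul] at hga
  have := (Ideal.unit_mul_mem_iff_mem _ hgu).mp hga
  rw [show (Y.presheaf.germ U y hy).hom a = t * algebraMap Γ(Y, U) (Y.presheaf.stalk y) c from hac.symm] at this
  exact (Ideal.mul_unit_mem_iff_mem _ hu).mp this

variable {X T : Scheme.{u}} {Z W : LocallyRingedSpace.{u}}

/-- Closed immersions pull back along open immersions of schemes. -/
theorem isClosedImmersion_lift (i : Z ⟶ X.toLocallyRingedSpace) (hi : LRSImm.IsClosedImmersion i)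
    (ι : T ⟶ X) [IsOpenImmersion ι] (a : W ⟶ Z) [LocallyRingedSpace.IsOpenImmersion a]
    (ha : Set.range a.base = i.base ⁻¹' Set.range ι.base)
    (i' : W ⟶ T.toLocallyRingedSpace) (hi' : i' ≫ ι.toLRSHom = a ≫ i) :
    LRSImm.IsClosedImmersion i' := by
  haveI : LocallyRingedSpace.IsOpenImmersion ι.toLRSHom := ‹IsOpenImmersion ι›
  have hbase : ∀ w, ι.base (i'.base w) = i.base (a.base w) := fun w => by
    show (i' ≫ ι.toLRSHom).base w = _
    rw [hi']; rfl
  have hoe : Topology.IsOpenEmbedding a.base := PresheafedSpace.IsOpenImmersion.base_open (f := a.toShHom.hom)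
  have hio : Topology.IsOpenEmbedding ι.base := ι.isOpenEmbedding
  have heq : ⇑ι.base ∘ ⇑i'.base = ⇑i.base ∘ ⇑a.base := funext hbase
  have hrange : Set.range i'.base = ι.base ⁻¹' Set.range i.base := by
    ext t
    constructor
    · rintro ⟨w, rfl⟩
      exact ⟨a.base w, (hbase w).symm⟩
    · rintro ⟨z, hz⟩
      obtain ⟨w, rfl⟩ : z ∈ Set.range a.base := by rw [ha]; exact ⟨t, hz.symm⟩
      exact ⟨w, hio.injective ((hbase w).trans hz)⟩
  have hemb : Topology.IsClosedEmbedding i'.base := by
    refine ⟨Topology.IsEmbedding.of_comp (by fun_prop) hio.continuous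
      (heq ▸ hi.1.isEmbedding.comp hoe.isEmbedding), ?_⟩
    rw [hrange]
    exact hi.1.isClosed_range.preimage hio.continuous
  have hst : ∀ w (y : X.presheaf.stalk (ι.base (i'.base w))),
      i'.stalkMap w (ι.stalkMap (i'.base w) y) = a.stalkMap w (i.stalkMap (a.base w)
        (X.presheaf.stalkSpecializes (specializes_of_eq (hbase w).symm) y)) := by
    intro w y
    have h1 := LocallyRingedSpace.stalkMap_congr_hom _ _ hi' w
    rw [LocallyRingedSpace.stalkMap_comp, LocallyRingedSpace.stalkMap_comp] at h1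
    exact congrArg (fun φ => φ y) h1
  have hsp : ∀ (x x' : X) (h : x = x'), Function.Bijective (X.presheaf.stalkSpecializes (specializes_of_eq h.symm)) := by
    rintro x _ rfl
    rw [TopCat.Presheaf.stalkSpecializes_refl]
    exact Function.bijective_id
  have hι : ∀ t, Function.Bijective (ι.stalkMap t) := fun t => ConcreteCategory.bijective_of_isIso _
  have ha' : ∀ w, Function.Bijective (a.stalkMap w) := fun w => ConcreteCategory.bijective_of_isIso _
  have hsurj : ∀ w, Function.Surjective (i'.stalkMap w) := fun w v => by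
    obtain ⟨v1, hv1⟩ := (ha' w).2 v
    obtain ⟨v2, hv2⟩ := stalkMap_surjective hi.1 hi.2.1 (a.base w) v1
    obtain ⟨v3, hv3⟩ := (hsp _ _ (hbase w)).2 v2
    exact ⟨ι.stalkMap (i'.base w) v3, by rw [hst, hv3, hv2, hv1]⟩
  refine ⟨hemb, ?_, fun t => ?_⟩
  · refine (TopCat.Presheaf.locally_surjective_iff_surjective_on_stalks _).mpr fun t => ?_
    by_cases ht : t ∈ Set.range i'.base
    · obtain ⟨w, rfl⟩ := ht
      haveI := TopCat.Presheaf.stalkPushforward.stalkPushforward_iso_of_isInducing (C := CommRingCat.{u})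
        hemb.isEmbedding.isInducing W.presheaf w
      intro v
      obtain ⟨b, hb⟩ := hsurj w (W.presheaf.stalkPushforward CommRingCat i'.base w v)
      exact ⟨b, (ConcreteCategory.bijective_of_isIso (W.presheaf.stalkPushforward CommRingCat i'.base w)).1 hb⟩
    · intro v
      have h1 : stalkC i' t 1 = 0 := (ker_stalkC_eq_top hemb ht).ge (Submodule.mem_top (x := (1 : T.presheaf.stalk t)))
      rw [map_one] at h1
      exact ⟨0, (map_zero _).trans ((zero_mul v).symm.trans ((congrArg (· * v) h1.symm).trans (one_mul v)))⟩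
  · obtain ⟨U, hU, hx, -⟩ := exists_isAffineOpen_mem_and_subset (X := X) (x := ι.base t) (U := ⊤) trivial
    refine ⟨ι ⁻¹ᵁ U, hx, killed i U, fun s => ι.app U s.1, fun s => ?_, fun t' ht' => ?_⟩
    · have h1 := congrArg (fun φ => φ s.1) (LocallyRingedSpace.comp_c_app i' ι.toLRSHom (op U))
      have h2 := congrArg (fun φ => φ s.1) (LocallyRingedSpace.comp_c_app a i (op U))
      simp only [ConcreteCategory.comp_apply] at h1 h2
      refine h1.symm.trans ?_
      have h3 : (a ≫ i).c.app (op U) s.1 = 0 := by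
        exact h2.trans ((congrArg (a.c.app (op ((Opens.map i.base).obj U))).hom (show i.c.app (op U) s.1 = 0 from s.2)).trans (map_zero _))
      clear h1 h2
      revert h3
      generalize a ≫ i = k at hi'
      subst hi'
      exact id
    · have hgerm : ∀ s : Γ(X, U), T.presheaf.germ (ι ⁻¹ᵁ U) t' ht' (ι.app U s) =
          ι.stalkMap t' (X.presheaf.germ U (ι.base t') ht' s) := fun s =>
        (Scheme.Hom.germ_stalkMap_apply ι U t' ht' s).symm
      have hX : (killed i U).map (X.presheaf.germ U (ι.base t') ht').hom = RingHom.ker (stalkC i (ι.base t')) :=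
        (ker_stalkC_eq i hi.2.2 hU ht').symm
      have hL : Ideal.span (Set.range fun s : killed i U => T.presheaf.germ (ι ⁻¹ᵁ U) t' ht' (ι.app U s.1)) =
          (RingHom.ker (stalkC i (ι.base t'))).map (ι.stalkMap t').hom := by
        rw [← hX, Ideal.map_map, Ideal.map, Set.image_eq_range]
        exact congrArg (fun g => Ideal.span (Set.range g)) (funext fun s => hgerm s.1)
      refine hL.trans ?_
      show _ = RingHom.ker (stalkC i' t')
      by_cases h : t' ∈ Set.range i'.base
      · obtain ⟨w, rfl⟩ := h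
        rw [← ker_stalkMap hemb w]
        ext v
        obtain ⟨y, rfl⟩ := (hι (i'.base w)).2 v
        rw [RingHom.mem_ker]
        have hy : ∀ y, i'.stalkMap w (ι.stalkMap (i'.base w) y) = 0 ↔ y ∈ RingHom.ker (stalkC i (ι.base (i'.base w))) := by
          intro y
          rw [hst]
          have key : ∀ (x : X) (hx : i.base (a.base w) = x) (y : X.presheaf.stalk x),
              a.stalkMap w (i.stalkMap (a.base w) (X.presheaf.stalkSpecializes (specializes_of_eq hx) y)) = 0 ↔
                y ∈ RingHom.ker (stalkC i x) := by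
            rintro _ rfl y
            rw [TopCat.Presheaf.stalkSpecializes_refl, map_eq_zero_iff _ (ha' w).1,
              ← ker_stalkMap hi.1 (a.base w), RingHom.mem_ker]
            rfl
          exact key _ (hbase w).symm y
        refine Iff.trans ?_ (hy y).symm
        rw [Ideal.mem_map_iff_of_surjective _ (hι (i'.base w)).2]
        exact ⟨fun ⟨z, hz, e⟩ => (hι _).1 e ▸ hz, fun hz => ⟨y, hz, rfl⟩⟩
      · rw [ker_stalkC_eq_top hemb h, ker_stalkC_eq_top hi.1 (fun hc => h (by rw [hrange]; exact hc)), Ideal.map_top]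

/-- The source of a closed immersion into a scheme is a scheme. -/
theorem exists_scheme (i : Z ⟶ X.toLocallyRingedSpace) (hi : LRSImm.IsClosedImmersion i) :
    ∃ (Z' : Scheme.{u}) (e : Z'.toLocallyRingedSpace ≅ Z),
      AlgebraicGeometry.IsClosedImmersion (Scheme.Hom.mk (e.hom ≫ i) : Z' ⟶ X) := by
  let Z' : Scheme.{u} :=
    { toLocallyRingedSpace := Z
      local_affine := fun z => by
        obtain ⟨U, hU, hx, -⟩ := exists_isAffineOpen_mem_and_subset (X := X) (x := i.base z) (U := ⊤) trivial
        let V : OpenNhds z := ⟨(Opens.map i.base).obj U, hx⟩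
        let a := Z.ofRestrict V.isOpenEmbedding
        haveI : LocallyRingedSpace.IsOpenImmersion a := inferInstance
        haveI : LocallyRingedSpace.IsOpenImmersion hU.fromSpec.toLRSHom := hU.isOpenImmersion_fromSpec
        have hr : Set.range (a ≫ i).base ⊆ Set.range hU.fromSpec.toLRSHom.base := by
          rintro _ ⟨w, rfl⟩
          exact hU.range_fromSpec.ge w.2
        let i' := LocallyRingedSpace.IsOpenImmersion.lift hU.fromSpec.toLRSHom (a ≫ i) hr
        have hi' : LRSImm.IsClosedImmersion i' := isClosedImmersion_lift i hi hU.fromSpec a (by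
          refine Eq.trans ?_ (congrArg _ hU.range_fromSpec.symm)
          ext y
          exact ⟨fun ⟨w, hw⟩ => hw ▸ w.2, fun hy => ⟨⟨y, hy⟩, rfl⟩⟩) i'
          (LocallyRingedSpace.IsOpenImmersion.lift_fac _ _ _)
        obtain ⟨e, -⟩ := exists_iso_spec Γ(X, U) i' hi' _ rfl
        exact ⟨V, _, ⟨e⟩⟩ }
  have h0 : (Iso.refl Z'.toLocallyRingedSpace).hom ≫ i = i := Category.id_comp i
  refine ⟨Z', Iso.refl _, ?_⟩
  rw [h0]
  exact { isClosedEmbedding := hi.1, stalkMap_surjective := fun z => stalkMap_surjective hi.1 hi.2.1 z }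

end Groth.Agent.Lib.LRSClosed
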